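import Groth.Agent.Lib.EtSplit19.Clopen
import Groth.Agent.Lib.RefHull26.PowColim
import Groth.Agent.Lib.Vol26.Sigma
import Groth.Agent.Lib.ProperFormalH7.SuppPush

/-!
# A module on a disjoint union of open subschemes
-/

set_option autoImplicit false
set_option linter.style.haveILetI false
set_option linter.unusedSectionVars false
set_option backward.isDefEq.respectTransparency false
set_option backward.isDefEq.respectTransparency.types false
set_option maxHeartbeats 1600000

universe u

open CategoryTheory CategoryTheory.Limits AlgebraicGeometry TopologicalSpace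

noncomputable section

namespace Groth.Agent.IsogSplit22

variable {X : Scheme.{u}}

/-- A module is the sum of its extensions by zero from the pieces of an open partition. -/
theorem nonempty_iso_sigma {ι : Type u} (U : ι → X.Opens)
    (hd : ∀ i j : ι, i ≠ j → Disjoint (U i : Set X) (U j : Set X)) (hcov : ∀ x : X, ∃ i, x ∈ U i)
    (N : X.Modules) :
    Nonempty ((∐ fun i => (Scheme.Modules.pushforward (U i).ι).obj
      ((Scheme.Modules.restrictFunctor (U i).ι).obj N)) ≅ N) := by
  have hcl : ∀ i, IsClosed (U i : Set X) := fun i => by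
    refine ⟨isOpen_iff_forall_mem_open.2 fun x hx => ?_⟩
    obtain ⟨j, hj⟩ := hcov x
    exact ⟨U j, fun y hy hyi => Set.disjoint_left.1 (hd j i fun e => hx (e ▸ hj)) hy hyi, (U j).isOpen, hj⟩
  have hsp : ∀ i, ∃ s : (Scheme.Modules.pushforward (U i).ι).obj ((Scheme.Modules.restrictFunctor (U i).ι).obj N) ⟶ N,
      s ≫ RH26.unitU (U i) N = 𝟙 _ := fun i => by
    haveI := EtSplit19.isSplitEpi_unit (U i).ι N (by rw [Scheme.Opens.range_ι]; exact hcl i)
    exact ⟨section_ _, IsSplitEpi.id (RH26.unitU (U i) N)⟩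
  choose s hs using hsp
  haveI : IsIso (Sigma.desc s) := (M1.isIso_iff_stalk _).2 fun x => by
    obtain ⟨i, hi⟩ := hcov x
    refine Vol26.bijective_stalk_desc_single _ x i (fun j hj => ?_) s ?_
    · have hx : x ∉ (U j : Set X) := fun h => Set.disjoint_left.1 (hd j i hj) h hi
      refine subsingleton_of_forall_eq 0 fun v => ?_
      obtain ⟨V, hV, t, rfl⟩ := TopCat.Presheaf.exists_germ_eq _ v
      let W : X.Opens := ⟨(V : Set X) ∩ (U j : Set X)ᶜ, V.isOpen.inter (hcl j).isOpen_compl⟩
      rw [← TopCat.Presheaf.germ_res_apply _ (homOfLE (fun y hy => hy.1 : W ≤ V)) x ⟨hV, hx⟩ t]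
      have hW : (U j).ι ⁻¹ᵁ W = ⊥ := eq_bot_iff.2 fun y hy => absurd y.2 hy.2
      haveI : Subsingleton Γ((Scheme.Modules.restrictFunctor (U j).ι).obj N, (U j).ι ⁻¹ᵁ W) := by
        rw [hW]
        exact ⟨fun a b => (EtSplit19.ab ((Scheme.Modules.restrictFunctor (U j).ι).obj N)).eq_of_locally_eq' (fun i : PEmpty.{u+1} => i.elim) ⊥
          (fun i => i.elim) bot_le a b fun i => i.elim⟩
      rw [Subsingleton.elim (α := Γ((Scheme.Modules.restrictFunctor (U j).ι).obj N, (U j).ι ⁻¹ᵁ W))
        (((Scheme.Modules.pushforward (U j).ι).obj ((Scheme.Modules.restrictFunctor (U j).ι).obj N)).presheaf.map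
          (homOfLE (fun y hy => hy.1 : W ≤ V)).op t) 0]
      exact map_zero _
    · have hb := RH26.bijective_stalk_unit (U i) (M := N) hi
      have hcomp : ∀ v, RefHull.stalkMapₗ (RH26.unitU (U i) N) x (CurveCoh17.stalkLin (s i) x v) = v := fun v => by
        refine (InjMod.stalkLin_comp_apply (s i) (RH26.unitU (U i) N) x v).symm.trans ?_
        rw [hs i]
        exact ConcreteCategory.congr_hom ((M1.stalkAb x).map_id
          ((Scheme.Modules.pushforward (U i).ι).obj ((Scheme.Modules.restrictFunctor (U i).ι).obj N))) v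
      exact ⟨fun a b h => by rw [← hcomp a, ← hcomp b, h], fun c =>
        ⟨RefHull.stalkMapₗ (RH26.unitU (U i) N) x c, hb.1 (hcomp _)⟩⟩
  exact ⟨asIso (Sigma.desc s)⟩

end Groth.Agent.IsogSplit22

end
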